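import Cfsg.Agent.H845.FD.Main
import Cfsg.Agent.H638.FD.Ext
import Cfsg.Agent.H152.PS.Deg
import Cfsg.Agent.H497.CD.Cnt

/-!
# Almost simple groups with socle of type `B₂`, `G₂` have at least five character degrees: final form (helper845)
-/

set_option autoImplicit false
set_option linter.unusedSectionVars false

namespace Cfsg.Agent.H845.FD.RankTwo

open CoxeterSystem Cfsg.Agent.ChevalleyStructure.CoxeterGeom Cfsg.Agent.Tits.Roots Cfsg.Agent.Tits.Core
  Cfsg.Agent.Tits.Exchange Cfsg.Agent.Nodes.Reps Cfsg.Agent.Nodes.BNOf Cfsg.Agent.Nodes.StabComb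
  Cfsg.Agent.Nodes.Bruhat Cfsg.Agent.Nodes.LeviDec Cfsg.Agent.Omega.EH3.Kf.Lev
open Cfsg.Agent.H638.FD

universe u

theorem five_rank_two {G : Type u} [Group G] [Finite G] {p : ℕ} [Fact p.Prime] (N : Subgroup G) [N.Normal]
    (hc : Subgroup.centralizer (N : Set G) = ⊥) [IsSimpleGroup N] {W : Type*} [Group W] [Finite W] {M : CoxeterMatrix (Fin 2)}
    {cs : CoxeterSystem M W} {A : Fin 2 → Fin 2 → ℤ} {h : IsCartan M A} {T : Subgroup N} {n : Fin 2 → N}
    {X : (Fin 2 → ℤ) → Subgroup N} (R : RGD cs h p T n X) (hG : GG cs h T X = ⊤) (hC : CommGen cs h X)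
    (hM : 4 ≤ M 0 1) (hq : ∃ i, 2 < Nat.card (X (sr i))) (θ : N → ℂ) (hθ : IsSt p θ) : 5 ≤ (Cfsg.charDegrees G).ncard := by
  classical
  have : Fintype ↥(RGD.B cs h T X) := Fintype.ofFinite _
  refine Main.five_core N hc R hG hM hq (fun ξ hξ h1 hB => H152.PS.dvd_degree R hG hC hξ h1 hB)
    (H497.CD.rank_two_index R hG) ?_
  obtain ⟨S, hS⟩ := R.isPGroup_Upos.exists_le_sylow
  have h1 := Nodes.NormalForm.eq_U_of_isPGroup R S.isPGroup' hS (by rw [hG]; exact le_top)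
  have h2 := Ext.mem_charDegrees_of_sylow N S hθ.1 (hθ.2.2 S).2
  have h3 : H672.inertia N θ = ⊤ := by
    rw [eq_top_iff]
    intro g _
    rw [H672.mem_inertia]
    exact funext fun s => hθ.2.1 _ s
  have h4 : Cfsg.charDegree θ = Nat.card S := H672.charDegree_of_eq (hθ.2.2 S).1
  rw [h3, Subgroup.index_top, one_mul, h4] at h2
  have h5 : Nat.card S = Nat.card ↥(RGD.Sup X (RGD.Pos cs h)) := by rw [← h1]
  rwa [h5] at h2

end Cfsg.Agent.H845.FD.RankTwo
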