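import Cfsg.Agent.H845.FD.Cox
import Cfsg.Agent.Nodes.NormalForm
import Cfsg.Agent.KFacts.RgdDiag

/-!
# Root group data of type `B₂`, `G₂`: orders (helper845)
-/

set_option autoImplicit false
set_option linter.unusedSectionVars false

namespace Cfsg.Agent.H845.FD.Card

open CoxeterSystem Cfsg.Agent.ChevalleyStructure.CoxeterGeom Cfsg.Agent.Tits.Roots Cfsg.Agent.Tits.Core
  Cfsg.Agent.Tits.Exchange Cfsg.Agent.Nodes.Reps Cfsg.Agent.Nodes.BNOf Cfsg.Agent.Nodes.StabComb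
  Cfsg.Agent.Nodes.Bruhat Cfsg.Agent.Nodes.OppDec Cfsg.Agent.Nodes.LeviDec Cfsg.Agent.Nodes.NormalForm
  Cfsg.Agent.H845.FD.Cox

section gen

variable {I W Y : Type*} [Fintype I] [DecidableEq I] [Group W] [Group Y] {M : CoxeterMatrix I}
  {cs : CoxeterSystem M W} {A : I → I → ℤ} {h : IsCartan M A} {p : ℕ} {T : Subgroup Y} {n : I → Y}
  {X : (I → ℤ) → Subgroup Y} (R : RGD cs h p T n X)

include R

/-- `|U| = q_i |V_i|`. -/
theorem card_U_eq [Finite W] (i : I) : Nat.card ↥(RGD.Sup X (RGD.Pos cs h)) =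
    Nat.card ↥(X (sr i)) * Nat.card ↥(VJ cs h X {i}) := by
  have h1 : UJ cs h X {i} = X (sr i) := KFacts.RgdDiag.UJ_singleton i
  rw [← h1]
  refine Nodes.CardSup.card_mul_of_disjoint (UJ_le_U _) (VJ_le_U _) (fun g hg => (mem_U_iff R).1 hg) (UJ_inf_VJ R _)

theorem two_le_card [Finite W] [Finite Y] (i : I) : 2 ≤ Nat.card ↥(X (sr i)) := by
  obtain ⟨u, hu, hu1⟩ := exists_ne_one R i
  have : Nontrivial ↥(X (sr i)) := ⟨⟨⟨u, hu⟩, 1, fun h => hu1 (congrArg Subtype.val h)⟩⟩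
  exact Finite.one_lt_card

/-- `U` is a Sylow subgroup. -/
theorem not_dvd_index [Finite W] [Finite Y] [hp : Fact p.Prime] (hG : GG cs h T X = ⊤) :
    ¬ p ∣ (RGD.Sup X (RGD.Pos cs h)).index := by
  obtain ⟨S, hS⟩ := R.isPGroup_Upos.exists_le_sylow
  have h1 := eq_U_of_isPGroup R S.isPGroup' hS (by rw [hG]; exact le_top)
  rw [← h1]
  exact S.not_dvd_index

end gen

variable {W Y : Type*} [Group W] [Group Y] {M : CoxeterMatrix (Fin 2)}
  {cs : CoxeterSystem M W} {A : Fin 2 → Fin 2 → ℤ} {h : IsCartan M A} {p : ℕ} {T : Subgroup Y} {n : Fin 2 → Y}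
  {X : (Fin 2 → ℤ) → Subgroup Y} (R : RGD cs h p T n X)

include R

/-- `|U| ≥ (q_0 q_1) ^ 2`. -/
theorem le_card_U [Finite W] [Finite Y] (hM : 4 ≤ M 0 1) :
    (Nat.card ↥(X (sr 0)) * Nat.card ↥(X (sr 1))) ^ 2 ≤ Nat.card ↥(RGD.Sup X (RGD.Pos cs h)) := by
  classical
  have hfin : (RGD.Pos cs h).Finite := (RGD.finite_roots (cs := cs) (h := h)).subset fun _ hx => hx.1
  have h1 := Nodes.CardSup.card_sup R (s := hfin.toFinset) (by rw [Set.Finite.coe_toFinset])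
    (by rw [Set.Finite.coe_toFinset]; exact Nodes.Unique.closed_pos)
  rw [Set.Finite.coe_toFinset] at h1
  rw [h1]
  -- four roots
  have hA : A 0 1 < 0 ∧ A 1 0 < 0 ∧ (A 0 1 < -1 ∨ A 1 0 < -1) := by
    rcases cartan_cases h hM with ⟨-, ⟨e1, e2⟩ | ⟨e1, e2⟩⟩ | ⟨-, ⟨e1, e2⟩ | ⟨e1, e2⟩⟩ <;> rw [e1, e2] <;> norm_num
  obtain ⟨a0, a1, a2⟩ := hA
  obtain ⟨x, hx⟩ : ∃ x, x = rep cs h (cs.simple 0) (sr 1) := ⟨_, rfl⟩
  obtain ⟨y, hy⟩ : ∃ y, y = rep cs h (cs.simple 1) (sr 0) := ⟨_, rfl⟩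
  have hx' : x = ![-A 0 1, 1] := by
    rw [hx, rep_zero_apply]
    funext j
    fin_cases j <;> simp [sr]
  have hy' : y = ![1, -A 1 0] := by
    rw [hy, rep_one_apply]
    funext j
    fin_cases j <;> simp [sr]
  have e0 : (sr 0 : Fin 2 → ℤ) = ![1, 0] := by funext j; fin_cases j <;> simp [sr]
  have e1 : (sr 1 : Fin 2 → ℤ) = ![0, 1] := by funext j; fin_cases j <;> simp [sr]
  have cx : Nat.card ↥(X x) = Nat.card ↥(X (sr 1)) := by
    rw [hx]; exact Nodes.CardSup.card_X_rep R _ (isRoot_sr cs h 1)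
  have cy : Nat.card ↥(X y) = Nat.card ↥(X (sr 0)) := by
    rw [hy]; exact Nodes.CardSup.card_X_rep R _ (isRoot_sr cs h 0)
  have n01 : (sr 0 : Fin 2 → ℤ) ≠ sr 1 := by
    rw [e0, e1]; intro he; have := congrFun he 0; simp at this
  have n0x : (sr 0 : Fin 2 → ℤ) ≠ x := by
    rw [e0, hx']; intro he; have := congrFun he 1; simp at this
  have n0y : (sr 0 : Fin 2 → ℤ) ≠ y := by
    rw [e0, hy']; intro he; have := congrFun he 1; simp at this; omega
  have n1x : (sr 1 : Fin 2 → ℤ) ≠ x := by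
    rw [e1, hx']; intro he; have := congrFun he 0; simp at this; omega
  have n1y : (sr 1 : Fin 2 → ℤ) ≠ y := by
    rw [e1, hy']; intro he; have := congrFun he 0; simp at this
  have nxy : x ≠ y := by
    rw [hx', hy']; intro he; have h3 := congrFun he 0; have h4 := congrFun he 1; simp at h3 h4; omega
  have hsub : ({sr 0, sr 1, x, y} : Finset (Fin 2 → ℤ)) ⊆ hfin.toFinset := by
    intro z hz
    rw [Set.Finite.mem_toFinset]
    simp only [Finset.mem_insert, Finset.mem_singleton] at hz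
    rcases hz with rfl | rfl | rfl | rfl
    · exact ⟨isRoot_sr cs h 0, sr_nonneg 0⟩
    · exact ⟨isRoot_sr cs h 1, sr_nonneg 1⟩
    · refine ⟨hx ▸ (isRoot_sr cs h 1).act _, ?_⟩
      rw [hx']; intro j; fin_cases j <;> simp; omega
    · refine ⟨hy ▸ (isRoot_sr cs h 0).act _, ?_⟩
      rw [hy']; intro j; fin_cases j <;> simp; omega
  refine le_trans (le_of_eq ?_) (Finset.prod_le_prod_of_subset_of_one_le' hsub fun z _ _ => Nat.card_pos)
  rw [Finset.prod_insert, Finset.prod_insert, Finset.prod_insert, Finset.prod_singleton, cx, cy]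
  · ring
  · simpa using nxy
  · simp only [Finset.mem_insert, Finset.mem_singleton, not_or]; exact ⟨n1x, n1y⟩
  · simp only [Finset.mem_insert, Finset.mem_singleton, not_or]; exact ⟨n01, n0x, n0y⟩

end Cfsg.Agent.H845.FD.Card
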