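import Cfsg.Agent.H81.PJSum
import Cfsg.Agent.H62.PPIdx
import Cfsg.Agent.KFacts.RgdTau

/-!
# Root group data of type `B₂`, `G₂`: Coxeter group facts (helper845)
-/

set_option autoImplicit false
set_option linter.unusedSectionVars false

namespace Cfsg.Agent.H845.FD.Cox

open CoxeterSystem Cfsg.Agent.ChevalleyStructure.CoxeterGeom Cfsg.Agent.Tits.Roots Cfsg.Agent.Tits.Core
  Cfsg.Agent.Tits.Exchange Cfsg.Agent.Nodes.Reps Cfsg.Agent.Nodes.BNOf Cfsg.Agent.Nodes.StabComb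
  Cfsg.Agent.Nodes.Bruhat Cfsg.Agent.Nodes.OppDec Cfsg.Agent.Nodes.LeviDec

variable {W Y : Type*} [Group W] [Group Y] {M : CoxeterMatrix (Fin 2)}
  {cs : CoxeterSystem M W} {A : Fin 2 → Fin 2 → ℤ} {h : IsCartan M A} {p : ℕ} {T : Subgroup Y} {n : Fin 2 → Y}
  {X : (Fin 2 → ℤ) → Subgroup Y}

theorem cartan_cases (h : IsCartan M A) (hM : 4 ≤ M 0 1) :
    (M 0 1 = 4 ∧ ((A 0 1 = -1 ∧ A 1 0 = -2) ∨ (A 0 1 = -2 ∧ A 1 0 = -1))) ∨
    (M 0 1 = 6 ∧ ((A 0 1 = -1 ∧ A 1 0 = -3) ∨ (A 0 1 = -3 ∧ A 1 0 = -1))) := by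
  rcases h.rel 0 1 (by decide) with h1 | h1 | h1 | h1
  · omega
  · omega
  · exact Or.inl h1
  · exact Or.inr h1

theorem rep_zero_apply (cs : CoxeterSystem M W) (h : IsCartan M A) (x : Fin 2 → ℤ) :
    rep cs h (cs.simple 0) x = ![-x 0 - A 0 1 * x 1, x 1] := by
  have h0 := h.diag 0
  funext j
  rw [rep_simple_eq]
  unfold pairing
  rw [Fin.sum_univ_two, h0]
  fin_cases j
  · simp [sr]
    ring
  · simp [sr]

theorem rep_one_apply (cs : CoxeterSystem M W) (h : IsCartan M A) (x : Fin 2 → ℤ) :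
    rep cs h (cs.simple 1) x = ![x 0, -x 1 - A 1 0 * x 0] := by
  have h1 := h.diag 1
  funext j
  rw [rep_simple_eq]
  unfold pairing
  rw [Fin.sum_univ_two, h1]
  fin_cases j
  · simp [sr]
  · simp [sr]
    ring

/-- the rotation -/
def rot (cs : CoxeterSystem M W) : W := cs.simple 0 * cs.simple 1

theorem rep_rot (cs : CoxeterSystem M W) (h : IsCartan M A) (x : Fin 2 → ℤ) :
    rep cs h (rot cs) x = ![(A 0 1 * A 1 0 - 1) * x 0 + A 0 1 * x 1, -A 1 0 * x 0 - x 1] := by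
  unfold rot
  rw [rep_mul_apply, rep_one_apply, rep_zero_apply]
  funext j
  fin_cases j
  · simp
    ring
  · simp
    ring

theorem rot_pow (cs : CoxeterSystem M W) : rot cs ^ M 0 1 = 1 := cs.simple_mul_simple_pow 0 1

/-- half of the order -/
theorem exists_neg (cs : CoxeterSystem M W) (h : IsCartan M A) (hM : 4 ≤ M 0 1) :
    ∃ k, M 0 1 = 2 * k ∧ k ≤ 3 ∧ 2 ≤ k ∧ ∀ x, rep cs h (rot cs ^ k) x = -x := by
  rcases cartan_cases h hM with ⟨h1, h2⟩ | ⟨h1, h2⟩
  · refine ⟨2, h1, by norm_num, le_rfl, fun x => ?_⟩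
    have h3 : A 0 1 * A 1 0 = 2 := by rcases h2 with ⟨e1, e2⟩ | ⟨e1, e2⟩ <;> rw [e1, e2] <;> norm_num
    rw [pow_two, rep_mul_apply, rep_rot, rep_rot, h3]
    funext j
    fin_cases j
    · simp
      linear_combination (-x 0) * h3
    · simp
      linear_combination (-x 1) * h3
  · refine ⟨3, h1, le_rfl, by norm_num, fun x => ?_⟩
    have h3 : A 0 1 * A 1 0 = 3 := by rcases h2 with ⟨e1, e2⟩ | ⟨e1, e2⟩ <;> rw [e1, e2] <;> norm_num
    rw [pow_succ, pow_two, rep_mul_apply, rep_mul_apply, rep_rot, rep_rot, rep_rot, h3]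
    funext j
    fin_cases j
    · simp
      linear_combination (-3 * x 0 - A 0 1 * x 1) * h3
    · simp
      linear_combination (A 1 0 * x 0) * h3

theorem simple_rot (cs : CoxeterSystem M W) (k : ℕ) : cs.simple 0 * rot cs ^ k * cs.simple 0 = (rot cs ^ k)⁻¹ := by
  induction k with
  | zero => simp
  | succ k ih =>
    have h1 : cs.simple 0 * rot cs * cs.simple 0 = (rot cs)⁻¹ := by
      unfold rot
      rw [mul_inv_rev, cs.inv_simple, cs.inv_simple, ← mul_assoc, cs.simple_mul_simple_self, one_mul]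
    have h2 : cs.simple 0 * rot cs ^ (k + 1) * cs.simple 0 =
        (cs.simple 0 * rot cs ^ k * cs.simple 0) * (cs.simple 0 * rot cs * cs.simple 0) := by
      rw [pow_succ]
      have h3 : cs.simple 0 * rot cs ^ k * cs.simple 0 * (cs.simple 0 * rot cs * cs.simple 0) =
          cs.simple 0 * rot cs ^ k * (cs.simple 0 * cs.simple 0) * rot cs * cs.simple 0 := by group
      rw [h3, cs.simple_mul_simple_self]
      group
    rw [h2, ih, h1, pow_succ', mul_inv_rev]

/-- The double cosets of `W_0 = ⟨s_0⟩`. -/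
theorem exists_double (cs : CoxeterSystem M W) {k : ℕ} (hk : M 0 1 = 2 * k) (hk0 : 0 < k) (w : W) :
    ∃ j ≤ k, ∃ a ∈ WJ cs {0}, ∃ b ∈ WJ cs {0}, w = a * rot cs ^ j * b := by
  have hs0 : cs.simple 0 ∈ WJ cs {0} := simple_mem_WJ cs (Set.mem_singleton 0)
  have hinv : ∀ j, (rot cs ^ j)⁻¹ = rot cs ^ ((2 * k - 1) * j) := by
    intro j
    have h1 := rot_pow cs
    rw [hk] at h1
    rw [inv_eq_iff_mul_eq_one, ← pow_add, show j + (2 * k - 1) * j = 2 * k * j by
      have : 2 * k = (2 * k - 1) + 1 := by omega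
      conv_rhs => rw [this]
      ring, pow_mul, h1, one_pow]
  have h0 : ∀ j, cs.simple 0 * rot cs ^ j = rot cs ^ ((2 * k - 1) * j) * cs.simple 0 := by
    intro j
    rw [← hinv, ← simple_rot, mul_assoc (cs.simple 0 * rot cs ^ j), cs.simple_mul_simple_self, mul_one]
  -- every element is `r ^ j` or `r ^ j s_0`
  have key : ∀ w : W, ∃ j, w = rot cs ^ j ∨ w = rot cs ^ j * cs.simple 0 := by
    intro w
    obtain ⟨ω, rfl⟩ := cs.wordProd_surjective w
    induction ω with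
    | nil => exact ⟨0, Or.inl (by rw [wordProd_nil, pow_zero])⟩
    | cons i ω ih =>
      obtain ⟨j, hj⟩ := ih
      rw [wordProd_cons]
      have hi : i = 0 ∨ i = 1 := by fin_cases i <;> simp
      rcases hi with rfl | rfl
      · refine ⟨(2 * k - 1) * j, ?_⟩
        rcases hj with hj | hj
        · right; rw [hj, h0]
        · left; rw [hj, ← mul_assoc, h0, mul_assoc, cs.simple_mul_simple_self, mul_one]
      · have e : cs.simple 1 = cs.simple 0 * rot cs := by
          unfold rot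
          rw [← mul_assoc, cs.simple_mul_simple_self, one_mul]
        refine ⟨(2 * k - 1) * (j + 1), ?_⟩
        rcases hj with hj | hj
        · right; rw [hj, e, mul_assoc, ← pow_succ', h0]
        · left; rw [hj, e, mul_assoc, ← mul_assoc (rot cs), ← pow_succ', ← mul_assoc, h0, mul_assoc,
            cs.simple_mul_simple_self, mul_one]
  obtain ⟨j, hj⟩ := key w
  obtain ⟨b, hb, hwb⟩ : ∃ b ∈ WJ cs {0}, w = rot cs ^ j * b := by
    rcases hj with hj | hj
    · exact ⟨1, one_mem _, by rw [hj, mul_one]⟩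
    · exact ⟨_, hs0, hj⟩
  have hmod : rot cs ^ j = rot cs ^ (j % (2 * k)) := by
    have h1 := rot_pow cs
    rw [hk] at h1
    conv_lhs => rw [← Nat.div_add_mod j (2 * k), pow_add, pow_mul, h1, one_pow, one_mul]
  have hlt : j % (2 * k) < 2 * k := Nat.mod_lt _ (by omega)
  by_cases hle : j % (2 * k) ≤ k
  · exact ⟨_, hle, 1, one_mem _, b, hb, by rw [one_mul, ← hmod, hwb]⟩
  · refine ⟨2 * k - j % (2 * k), by omega, cs.simple 0, hs0, cs.simple 0 * b, mul_mem hs0 hb, ?_⟩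
    have h1 : rot cs ^ j = (rot cs ^ (2 * k - j % (2 * k)))⁻¹ := by
      rw [hmod, eq_inv_iff_mul_eq_one, ← pow_add, show j % (2 * k) + (2 * k - j % (2 * k)) = 2 * k by omega, ← hk,
        rot_pow]
    rw [hwb, h1, ← simple_rot]
    group

end Cfsg.Agent.H845.FD.Cox
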