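import Cfsg.Agent.H845.FD.Sit
import Cfsg.Agent.H845.FD.Perm
import Cfsg.Agent.S0715

/-!
# The constituents of the permutation character on the cosets of a parabolic subgroup (helper845)

* `Sit.dvd_degree`, `Sit.degree_lt` : a nonprincipal constituent has degree divisible by `p` and less than `|Y : P_0|`;
* `Sit.false_of_degrees` : there is no `f` with `f ∣ χ(1) ≤ 2 f` for all the nonprincipal constituents `χ`.
-/

set_option autoImplicit false
set_option linter.unusedSectionVars false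

namespace Cfsg.Agent.H845.FD.SitDef

open Cfsg CoxeterSystem Cfsg.Agent.ChevalleyStructure.CoxeterGeom Cfsg.Agent.Tits.Roots Cfsg.Agent.Tits.Core
  Cfsg.Agent.Tits.Exchange Cfsg.Agent.Nodes.Reps Cfsg.Agent.Nodes.BNOf Cfsg.Agent.Nodes.StabComb
  Cfsg.Agent.Nodes.Bruhat Cfsg.Agent.Nodes.OppDec Cfsg.Agent.Nodes.LeviDec Cfsg.Agent.Nodes.NormalForm
  Cfsg.Agent.H845.FD.Cox Cfsg.Agent.H845.FD.Card Cfsg.Agent.H672

universe u v

variable {W : Type*} {Y : Type u} {Γ : Type v} [Group W] [Group Y] [Group Γ] {M : CoxeterMatrix (Fin 2)}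
  {cs : CoxeterSystem M W} {A : Fin 2 → Fin 2 → ℤ} {h : IsCartan M A} {p : ℕ} {T : Subgroup Y} {n : Fin 2 → Y}
  {X : (Fin 2 → ℤ) → Subgroup Y} {R : RGD cs h p T n X} {φ : Y →* Γ} {H : Subgroup Γ} (S : Sit R φ H)

include S

/-- `p` divides the degrees of the nonprincipal constituents. -/
theorem Sit.dvd_degree [Finite W] [Finite Y] [Fintype Γ] [Fintype (Γ ⧸ H)] [Fintype ↥(RGD.B cs h T X)]
    (hD : ∀ ξ : Y → ℂ, IsIrrCharacter Y ξ → ξ ≠ (fun _ => 1) → ∑ b : RGD.B cs h T X, ξ b ≠ 0 → p ∣ charDegree ξ)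
    {χ : Γ → ℂ} (hχ : IsIrrCharacter Γ χ) (h1 : χ ≠ fun _ => 1)
    (h2 : classInner (fun g : Γ => (Nat.card (MulAction.fixedBy (Γ ⧸ H) g) : ℂ)) χ ≠ 0) : p ∣ charDegree χ := by
  have h3 := Perm.over_stabilizer (pt H) hχ h2
  rw [MulAction.stabilizer_quotient] at h3
  obtain ⟨ξ, hξ, h4, h5, h6⟩ := Perm.exists_under_ne_one hχ h1 φ S.conj H S.dec (RGD.B cs h T X)
    (fun b hb => (S.mem b).2 (B_le_PJ hb)) h3
  exact (hD ξ hξ h5 (Perm.sum_ne_zero_of_over _ h6)).trans (Perm.dvd_of_over φ S.inj S.conj hχ hξ h4)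

theorem Sit.degree_lt [Finite W] [Finite Y] [Fintype Γ] [Fintype (Γ ⧸ H)]
    {χ : Γ → ℂ} (hχ : IsIrrCharacter Γ χ) (h1 : χ ≠ fun _ => 1)
    (h2 : classInner (fun g : Γ => (Nat.card (MulAction.fixedBy (Γ ⧸ H) g) : ℂ)) χ ≠ 0) :
    charDegree χ < (PJ cs h T X {0}).index := by
  have h3 := Perm.charDegree_lt (pt H) hχ h1 h2
  rwa [S.card_eq] at h3

theorem Sit.false_of_degrees [Finite W] [Finite Y] [Fintype Γ] [Fintype (Γ ⧸ H)] [hp : Fact p.Prime]
    (hG : GG cs h T X = ⊤) (hM : 4 ≤ M 0 1)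
    (hidx : (PJ cs h T X {0}).index * (Nat.card (X (sr 0)) * Nat.card (X (sr 1)) - 1) =
      (Nat.card (RGD.Sup X (RGD.Pos cs h)) - 1) * (1 + Nat.card (X (sr 1)))) (f : ℕ)
    (hf : ∀ χ : Γ → ℂ, IsIrrCharacter Γ χ → χ ≠ (fun _ => 1) →
      classInner (fun g : Γ => (Nat.card (MulAction.fixedBy (Γ ⧸ H) g) : ℂ)) χ ≠ 0 →
      f ∣ charDegree χ ∧ charDegree χ ≤ 2 * f) : False := by
  obtain ⟨k, hk, hk3, hk2, hneg⟩ := exists_neg cs h hM
  obtain ⟨g, hg⟩ := exists_rp cs R.nsys (rot cs ^ k)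
  have hQ := le_card_U R hM
  have hU0 := card_U_eq R 0
  have hq0 := two_le_card R 0
  have hq1 := two_le_card R 1
  have hnd := not_dvd_index R hG
  obtain ⟨q0, e0⟩ : ∃ q, q = Nat.card ↥(X (sr 0)) := ⟨_, rfl⟩
  obtain ⟨q1, e1⟩ : ∃ q, q = Nat.card ↥(X (sr 1)) := ⟨_, rfl⟩
  obtain ⟨Q, eQ⟩ : ∃ q, q = Nat.card ↥(RGD.Sup X (RGD.Pos cs h)) := ⟨_, rfl⟩
  obtain ⟨V, eV⟩ : ∃ q, q = Nat.card ↥(VJ cs h X {0}) := ⟨_, rfl⟩
  obtain ⟨m, em⟩ : ∃ q, q = (PJ cs h T X {0}).index := ⟨_, rfl⟩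
  -- the bound
  have h1 := Perm.card_le (pt H) (2 * f) fun χ hχ h1 h2 => (hf χ hχ h1 h2).2
  rw [S.card_eq] at h1
  have h2 := S.rank_le hG hk (by omega)
  -- the divisibility
  have hdvd : ∀ b : Γ ⧸ H, b ≠ pt H → f ∣ Nat.card (MulAction.orbit (MulAction.stabilizer Γ (pt H)) b) := by
    intro b hb
    refine Cfsg.Agent.S0715.result f (fun χ hχ h1 h2 => ?_) (pt H) b hb
    obtain ⟨c, hc⟩ := (hf χ hχ h1 h2).1
    refine ⟨c, ?_⟩
    rw [← coe_charDegree hχ, hc]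
    push_cast
    ring
  have h3 := S.card_orbit_opp hneg hg
  rw [← eV] at h3
  rw [← e0, ← eQ, ← eV] at hU0
  rw [← e0] at hq0
  rw [← e1] at hq1
  rw [← e0, ← e1, ← eQ] at hQ hidx
  rw [← em] at hidx h1
  have hV : 1 < V := by
    by_contra hcon
    have h4 : q0 * V ≤ q0 * 1 := Nat.mul_le_mul_left _ (by omega)
    have h5 : (q0 * q1) ^ 2 = q0 * (q0 * q1 * q1) := by ring
    have h7 : 2 * 2 * 2 ≤ q0 * q1 * q1 := Nat.mul_le_mul (Nat.mul_le_mul hq0 hq1) hq1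
    have h6 : q0 * 1 < q0 * (q0 * q1 * q1) := Nat.mul_lt_mul_of_pos_left (by omega) (by omega)
    omega
  have hb0 : φ g • pt H ≠ pt H := by
    intro he
    have h4 : MulAction.orbit (MulAction.stabilizer Γ (pt H)) (φ g • pt H) = {pt H} := by
      rw [he]
      ext b
      constructor
      · rintro ⟨⟨x, hx⟩, rfl⟩
        exact hx
      · rintro rfl
        exact MulAction.mem_orbit_self _
    rw [h4, Nat.card_unique] at h3
    omega
  have hb1 : φ (n 1) • pt H ≠ pt H := by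
    intro he
    have h4 : φ (n 1) • pt H = (1 : Γ) • pt H := by rw [he, one_smul]
    rw [smul_pt_eq_iff, mul_one, inv_mem_iff, S.mem] at h4
    have h5 := (cell_mem_PJ_iff R (cell_of_rp (rp_simple cs R.nsys 1))).1 h4
    exact absurd (KFacts.RgdDiag.eq_of_simple_mem h h5) (by decide)
  have d0 := hdvd _ hb0
  rw [h3] at d0
  have d1 := (hdvd _ hb1).trans S.card_orbit_one
  rw [← e1] at d1
  -- `V` is a power of `p`
  have hcop : Nat.Coprime f ((RGD.Sup X (RGD.Pos cs h)).relIndex (PJ cs h T X {0})) := by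
    have hVp : IsPGroup p ↥(VJ cs h X {0}) := R.isPGroup_Upos.to_le (VJ_le_U _)
    obtain ⟨j, hj⟩ := IsPGroup.iff_card.1 hVp
    rw [← eV] at hj
    rw [hj] at d0
    obtain ⟨i, -, hi⟩ := (Nat.dvd_prime_pow hp.out).1 d0
    rw [hi]
    refine Nat.Coprime.pow_left _ ((Nat.Prime.coprime_iff_not_dvd hp.out).2 fun h4 => hnd ?_)
    exact h4.trans ((Subgroup.relIndex_dvd_index_of_le (RGD.U_le_B.trans B_le_PJ)))
  have d2 : f ∣ q1 := hcop.dvd_of_dvd_mul_left d1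
  have h4 : f ≤ q1 := Nat.le_of_dvd (by omega) d2
  have h5 : m ≤ 1 + 6 * q1 := by
    refine h1.trans (Nat.add_le_add_left ?_ 1)
    calc 2 * f * (Nat.card (MulAction.orbitRel.Quotient (MulAction.stabilizer Γ (pt H)) (Γ ⧸ H)) - 1) ≤
        2 * q1 * 3 := Nat.mul_le_mul (by omega) (by omega)
      _ = 6 * q1 := by ring
  -- numbers
  obtain ⟨a, ha⟩ : ∃ a, a = q0 * q1 := ⟨_, rfl⟩
  rw [← ha] at hidx hQ
  have ha1 : 2 * q1 ≤ a := by rw [ha]; exact Nat.mul_le_mul_right _ hq0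
  have h6 : (a + 1) * (1 + q1) ≤ m := by
    have h7 : (a - 1) * ((a + 1) * (1 + q1)) ≤ (a - 1) * m := by
      calc (a - 1) * ((a + 1) * (1 + q1)) = (a ^ 2 - 1) * (1 + q1) := by
            rw [← mul_assoc]
            congr 1
            obtain ⟨b, rfl⟩ : ∃ b, a = b + 1 := ⟨a - 1, by omega⟩
            have : (b + 1) ^ 2 - 1 = b * (b + 2) := by
              rw [show (b + 1) ^ 2 = b * (b + 2) + 1 by ring, Nat.add_sub_cancel]
            rw [this, Nat.add_sub_cancel]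
        _ ≤ (Q - 1) * (1 + q1) := Nat.mul_le_mul_right _ (by omega)
        _ = (a - 1) * m := by rw [← hidx, mul_comm]
    exact Nat.le_of_mul_le_mul_left h7 (by omega)
  nlinarith

end Cfsg.Agent.H845.FD.SitDef
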