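import Cfsg.Agent.H845.FD.SetupSit
import Cfsg.Agent.H845.FD.Key
import Cfsg.Agent.H638.FD.Def
import Cfsg.Agent.S4456

/-!
# Almost simple groups with socle of type `B₂`, `G₂` have at least five character degrees (helper845)
-/

set_option autoImplicit false
set_option linter.unusedSectionVars false

namespace Cfsg.Agent.H845.FD.Main

open Cfsg CoxeterSystem Cfsg.Agent.ChevalleyStructure.CoxeterGeom Cfsg.Agent.Tits.Roots Cfsg.Agent.Tits.Core
  Cfsg.Agent.Tits.Exchange Cfsg.Agent.Nodes.Reps Cfsg.Agent.Nodes.BNOf Cfsg.Agent.Nodes.StabComb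
  Cfsg.Agent.Nodes.Bruhat Cfsg.Agent.Nodes.OppDec Cfsg.Agent.Nodes.LeviDec Cfsg.Agent.Nodes.NormalForm
  Cfsg.Agent.H845.FD.Cox Cfsg.Agent.H845.FD.Card Cfsg.Agent.H845.FD.SitDef Cfsg.Agent.H672
  Cfsg.Agent.H845.FD.Setup

universe u

theorem finite_charDegrees (G : Type u) [Group G] [Finite G] : (charDegrees G).Finite := by
  have := Cfsg.Agent.Characters.Core.finite_irr (G := G)
  have h1 : charDegrees G = Set.range (fun χ : IrrCharacter G => charDegree (χ : G → ℂ)) := rfl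
  rw [h1]
  exact Set.finite_range _

theorem one_mem_charDegrees (G : Type u) [Group G] : 1 ∈ charDegrees G :=
  ⟨⟨_, Perm.isIrr_one'⟩, charDegree_of_eq (by norm_num)⟩

/-- A nonlinear character of degree prime to `p`. -/
theorem exists_nonlinear {G : Type u} [Group G] [Finite G] {p : ℕ} [hp : Fact p.Prime] (N : Subgroup G) [N.Normal]
    (hc : Subgroup.centralizer (N : Set G) = ⊥) [IsSimpleGroup N] (hpN : p ∣ Nat.card N) :
    ∃ m ∈ charDegrees G, m ≠ 1 ∧ ¬ p ∣ m := by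
  by_contra hcon
  push Not at hcon
  obtain ⟨K, hK, hKp, k, hk⟩ := Cfsg.Agent.S4456.result (G := G) p hp.out fun χ h1 => hcon _ ⟨χ, rfl⟩ h1
  -- `K ∩ N = 1`
  have h1 : K.subgroupOf N = ⊥ ∨ K.subgroupOf N = ⊤ := by
    have : (K.subgroupOf N).Normal := Subgroup.Normal.subgroupOf hK N
    exact this.eq_bot_or_eq_top
  rcases h1 with h1 | h1
  · have h2 : K ⊓ N = ⊥ := by
      rw [Subgroup.subgroupOf_eq_bot] at h1
      exact disjoint_iff.1 h1
    have h3 : K ≤ Subgroup.centralizer (N : Set G) := by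
      intro x hx
      rw [Subgroup.mem_centralizer_iff]
      intro y hy
      have h4 : y * x * y⁻¹ * x⁻¹ ∈ K ⊓ N := by
        refine Subgroup.mem_inf.2 ⟨mul_mem (hK.conj_mem x hx y) (inv_mem hx), ?_⟩
        have h5 : y * x * y⁻¹ * x⁻¹ = y * (x * y⁻¹ * x⁻¹) := by group
        rw [h5]
        exact mul_mem hy (Subgroup.Normal.conj_mem inferInstance _ (inv_mem hy) x)
      rw [h2, Subgroup.mem_bot] at h4
      rw [mul_inv_eq_one, mul_inv_eq_iff_eq_mul] at h4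
      exact h4
    rw [hc] at h3
    have hK1 : K = ⊥ := eq_bot_iff.2 h3
    rw [hK1, Subgroup.index_bot] at hk
    -- `G` is a `p`-group
    have hGp : IsPGroup p N := (IsPGroup.of_card hk).to_subgroup N
    have h5 : Subgroup.center N ≠ ⊥ := by
      intro h6
      have := hGp.center_nontrivial
      rw [h6] at this
      exact not_subsingleton ↥(⊥ : Subgroup N) (inferInstance : Subsingleton ↥(⊥ : Subgroup N))
    have h6 : Subgroup.center N = ⊤ := (Subgroup.Normal.eq_bot_or_eq_top inferInstance).resolve_left h5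
    obtain ⟨x, hx⟩ := exists_ne (1 : N)
    apply hx
    have h7 : (x : G) ∈ Subgroup.centralizer (N : Set G) := by
      rw [Subgroup.mem_centralizer_iff]
      intro y hy
      have h8 : x ∈ Subgroup.center N := by rw [h6]; exact Subgroup.mem_top x
      exact congrArg Subtype.val (Subgroup.mem_center_iff.1 h8 ⟨y, hy⟩)
    rw [hc, Subgroup.mem_bot] at h7
    exact Subtype.ext h7
  · rw [Subgroup.subgroupOf_eq_top] at h1
    have h2 : p ∣ Nat.card K := hpN.trans (Subgroup.card_dvd_of_le h1)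
    exact (Nat.Prime.coprime_iff_not_dvd hp.out).1 hKp.symm h2

/-- Two different further degrees divisible by `p` give five degrees. -/
theorem eq_of_not_five {G : Type u} [Group G] [Finite G] {p : ℕ} [hp : Fact p.Prime] (h5 : ¬ 5 ≤ (charDegrees G).ncard)
    {Q m : ℕ} (hQ : Q ∈ charDegrees G) (hpQ : p ∣ Q) (hm : m ∈ charDegrees G) (hm1 : m ≠ 1)
    (hpm : ¬ p ∣ m) {d d' : ℕ} (hd : d ∈ charDegrees G) (hd' : d' ∈ charDegrees G) (hpd : p ∣ d) (hpd' : p ∣ d')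
    (hdQ : d ≠ Q) (hdQ' : d' ≠ Q) : d = d' := by
  classical
  by_contra hne
  apply h5
  have h1 : ∀ x, p ∣ x → x ≠ 1 := fun x hx h1 => hp.out.one_lt.ne' (Nat.dvd_one.1 (h1 ▸ hx))
  have h2 : ∀ x, p ∣ x → x ≠ m := fun x hx h1 => hpm (h1 ▸ hx)
  have h3 : (({1, m, Q, d, d'} : Finset ℕ) : Set ℕ) ⊆ charDegrees G := by
    intro x hx
    simp only [Finset.coe_insert, Finset.coe_singleton, Set.mem_insert_iff, Set.mem_singleton_iff] at hx
    rcases hx with rfl | rfl | rfl | rfl | rfl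
    · exact one_mem_charDegrees G
    · exact hm
    · exact hQ
    · exact hd
    · exact hd'
  have h4 := Set.ncard_le_ncard h3 (finite_charDegrees G)
  rw [Set.ncard_coe_finset] at h4
  refine le_trans (le_of_eq ?_) h4
  rw [Finset.card_insert_of_notMem, Finset.card_insert_of_notMem, Finset.card_insert_of_notMem,
    Finset.card_pair hne]
  · simp only [Finset.mem_insert, Finset.mem_singleton, not_or]
    exact ⟨hdQ.symm, hdQ'.symm⟩
  · simp only [Finset.mem_insert, Finset.mem_singleton, not_or]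
    exact ⟨(h2 Q hpQ).symm, (h2 d hpd).symm, (h2 d' hpd').symm⟩
  · simp only [Finset.mem_insert, Finset.mem_singleton, not_or]
    exact ⟨hm1.symm, (h1 Q hpQ).symm, (h1 d hpd).symm, (h1 d' hpd').symm⟩

theorem numbers {n0 q0 q1 Q t : ℕ} (h0 : 2 ≤ q0) (h1 : 2 ≤ q1) (hQ : 1 < Q)
    (hidx : n0 * (q0 * q1 - 1) = (Q - 1) * (1 + q1)) (ht : t = 1 ∨ (t = 2 ∧ q0 = q1 ∧ 3 ≤ q1)) :
    t * (n0 - 1) < Q := by
  rcases ht with rfl | ⟨rfl, rfl, h3⟩
  · rw [one_mul]
    have h2 : 1 + q1 ≤ q0 * q1 - 1 := by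
      have : 2 * q1 ≤ q0 * q1 := Nat.mul_le_mul_right _ h0
      omega
    have h3 : n0 * (q0 * q1 - 1) ≤ (Q - 1) * (q0 * q1 - 1) := hidx.le.trans (Nat.mul_le_mul_left _ h2)
    have h4 : n0 ≤ Q - 1 := Nat.le_of_mul_le_mul_right h3 (by
      have : 2 * q1 ≤ q0 * q1 := Nat.mul_le_mul_right _ h0
      omega)
    omega
  · have h4 : n0 * (q0 - 1) = Q - 1 := by
      have h5 : q0 * q0 - 1 = (q0 - 1) * (1 + q0) := by
        obtain ⟨b, rfl⟩ : ∃ b, q0 = b + 1 := ⟨q0 - 1, by omega⟩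
        rw [Nat.add_sub_cancel, show (b + 1) * (b + 1) = b * (1 + (b + 1)) + 1 by ring, Nat.add_sub_cancel]
      rw [h5, ← mul_assoc] at hidx
      exact Nat.eq_of_mul_eq_mul_right (by omega) hidx
    have h5 : n0 * 2 ≤ n0 * (q0 - 1) := Nat.mul_le_mul_left _ (by omega)
    omega

/-- **The core.** -/
theorem five_core {G : Type u} [Group G] [Finite G] {p : ℕ} [hp : Fact p.Prime] (N : Subgroup G) [N.Normal]
    (hc : Subgroup.centralizer (N : Set G) = ⊥) [IsSimpleGroup N] {W : Type*} [Group W] [Finite W]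
    {M : CoxeterMatrix (Fin 2)}
    {cs : CoxeterSystem M W} {A : Fin 2 → Fin 2 → ℤ} {h : IsCartan M A} {T : Subgroup N} {n : Fin 2 → N}
    {X : (Fin 2 → ℤ) → Subgroup N} (R : RGD cs h p T n X) (hG : GG cs h T X = ⊤)
    (hM : 4 ≤ M 0 1) (hq : ∃ i, 2 < Nat.card (X (sr i))) [Fintype ↥(RGD.B cs h T X)]
    (hD : ∀ ξ : N → ℂ, IsIrrCharacter N ξ → ξ ≠ (fun _ => 1) → ∑ b : RGD.B cs h T X, ξ b ≠ 0 → p ∣ charDegree ξ)
    (hidx : (PJ cs h T X {0}).index * (Nat.card (X (sr 0)) * Nat.card (X (sr 1)) - 1) =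
      (Nat.card (RGD.Sup X (RGD.Pos cs h)) - 1) * (1 + Nat.card (X (sr 1))))
    (hSt : Nat.card ↥(RGD.Sup X (RGD.Pos cs h)) ∈ charDegrees G) : 5 ≤ (Cfsg.charDegrees G).ncard := by
  classical
  by_contra h5
  have : Fintype ↥(Gm cs h T X) := Fintype.ofFinite _
  have : Fintype (↥(Gm cs h T X) ⧸ (Hm cs h T X).subgroupOf (Gm cs h T X)) := Fintype.ofFinite _
  have S := Setup.sit R hG
  have hq0 := two_le_card R 0
  have hq1 := two_le_card R 1
  have hQ := le_card_U R hM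
  obtain ⟨Q, eQ⟩ : ∃ q, q = Nat.card ↥(RGD.Sup X (RGD.Pos cs h)) := ⟨_, rfl⟩
  have hQ1 : 1 < Q := by
    rw [eQ]
    refine lt_of_lt_of_le ?_ hQ
    have h1 : 2 * 2 ≤ Nat.card ↥(X (sr 0)) * Nat.card ↥(X (sr 1)) := Nat.mul_le_mul hq0 hq1
    nlinarith
  have hpQ : p ∣ Q := by
    obtain ⟨j, hj⟩ := IsPGroup.iff_card.1 R.isPGroup_Upos
    rw [← eQ] at hj
    rcases Nat.eq_zero_or_pos j with rfl | hj0
    · rw [pow_zero] at hj
      omega
    · rw [hj]
      exact dvd_pow_self p (by omega)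
  have hpN : p ∣ Nat.card N := by
    rw [eQ] at hpQ
    exact hpQ.trans (Subgroup.card_subgroup_dvd_card _)
  obtain ⟨m, hm, hm1, hpm⟩ := exists_nonlinear N hc hpN
  have hidx' := hidx
  rw [← eQ] at hidx' hSt
  -- the index
  obtain ⟨t, ht, htn, hnorm⟩ : ∃ t, (Gm cs h T X).index = t ∧
      (t = 1 ∨ (t = 2 ∧ Nat.card ↥(X (sr 0)) = Nat.card ↥(X (sr 1)) ∧ 3 ≤ Nat.card ↥(X (sr 1)))) ∧
      (Gm cs h T X).Normal := by
    rcases Gm_cases R hG with h1 | ⟨h1, h2⟩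
    · refine ⟨1, by rw [h1, Subgroup.index_top], Or.inl rfl, ?_⟩
      rw [h1]
      infer_instance
    · refine ⟨2, h1, Or.inr ⟨rfl, h2, ?_⟩, Subgroup.normal_of_index_eq_two h1⟩
      obtain ⟨i, hi⟩ := hq
      have hi2 : i = 0 ∨ i = 1 := by fin_cases i <;> simp
      rcases hi2 with rfl | rfl
      · omega
      · omega
  have hnum := numbers hq0 hq1 hQ1 hidx' htn
  -- the characters over the constituents
  have key : ∀ χ : ↥(Gm cs h T X) → ℂ, IsIrrCharacter _ χ → χ ≠ (fun _ => 1) →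
      classInner (fun g : ↥(Gm cs h T X) => (Nat.card (MulAction.fixedBy (↥(Gm cs h T X) ⧸
        (Hm cs h T X).subgroupOf (Gm cs h T X)) g) : ℂ)) χ ≠ 0 →
      ∃ d ∈ charDegrees G, p ∣ d ∧ d ≠ Q ∧ (d = charDegree χ ∨ (t = 2 ∧ d = 2 * charDegree χ)) := by
    intro χ hχ h1 h2
    have h3 := S.dvd_degree hD hχ h1 h2
    have h4 := S.degree_lt hχ h1 h2
    obtain ⟨ψ, hψ, hover⟩ := exists_over_subtype (Gm cs h T X) hχ
    obtain ⟨⟨c, hc1⟩, h6⟩ := charDegree_dvd_of_over (Gm cs h T X) hψ hχ hover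
    have hpos := charDegree_pos hχ
    rw [hc1, Nat.mul_div_cancel_left _ hpos, ht] at h6
    refine ⟨charDegree ψ, ⟨⟨ψ, hψ⟩, rfl⟩, ?_, ?_, ?_⟩
    · rw [hc1]; exact h3.mul_right c
    · have h7 : c ≤ t := Nat.le_of_dvd (by rcases htn with h | ⟨h, -⟩ <;> omega) h6
      have h8 : charDegree ψ ≤ t * ((PJ cs h T X {0}).index - 1) := by
        rw [hc1, mul_comm]
        exact Nat.mul_le_mul h7 (by omega)
      omega
    · rcases htn with h | ⟨h, -⟩
      · rw [h, Nat.dvd_one] at h6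
        left
        rw [hc1, h6, mul_one]
      · rw [h] at h6
        rcases (Nat.dvd_prime Nat.prime_two).1 h6 with h7 | h7
        · left; rw [hc1, h7, mul_one]
        · right; exact ⟨h, by rw [hc1, h7, mul_comm]⟩
  have heq : ∀ {d d' : ℕ}, d ∈ charDegrees G → d' ∈ charDegrees G → p ∣ d → p ∣ d' → d ≠ Q → d' ≠ Q → d = d' :=
    fun hd hd' h1 h2 h3 h4 => eq_of_not_five h5 hSt hpQ hm hm1 hpm hd hd' h1 h2 h3 h4
  have pos : ∀ χ : ↥(Gm cs h T X) → ℂ, IsIrrCharacter _ χ → 0 < charDegree χ := fun χ hχ => charDegree_pos hχ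
  by_cases hhalf : ∃ χ : ↥(Gm cs h T X) → ℂ, IsIrrCharacter _ χ ∧ χ ≠ (fun _ => 1) ∧
      classInner (fun g : ↥(Gm cs h T X) => (Nat.card (MulAction.fixedBy (↥(Gm cs h T X) ⧸
        (Hm cs h T X).subgroupOf (Gm cs h T X)) g) : ℂ)) χ ≠ 0 ∧
      ∃ d ∈ charDegrees G, p ∣ d ∧ d ≠ Q ∧ d = 2 * charDegree χ
  · obtain ⟨χ, hχ, h1, h2, d, hd, h3, h4, h6⟩ := hhalf
    refine S.false_of_degrees hG hM hidx (charDegree χ) fun χ' hχ' h1' h2' => ?_
    obtain ⟨d', hd', h3', h4', h6'⟩ := key χ' hχ' h1' h2'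
    have h7 := heq hd hd' h3 h3' h4 h4'
    rcases h6' with h8 | ⟨-, h8⟩
    · have h9 : charDegree χ' = 2 * charDegree χ := by omega
      rw [h9]
      exact ⟨dvd_mul_left _ _, le_rfl⟩
    · have h9 : charDegree χ' = charDegree χ := by omega
      rw [h9]
      exact ⟨dvd_rfl, by omega⟩
  · push Not at hhalf
    by_cases hex : ∃ χ : ↥(Gm cs h T X) → ℂ, IsIrrCharacter _ χ ∧ χ ≠ (fun _ => 1) ∧
      classInner (fun g : ↥(Gm cs h T X) => (Nat.card (MulAction.fixedBy (↥(Gm cs h T X) ⧸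
        (Hm cs h T X).subgroupOf (Gm cs h T X)) g) : ℂ)) χ ≠ 0
    · obtain ⟨χ, hχ, h1, h2⟩ := hex
      refine S.false_of_degrees hG hM hidx (charDegree χ) fun χ' hχ' h1' h2' => ?_
      have hone : ∀ χ : ↥(Gm cs h T X) → ℂ, IsIrrCharacter _ χ → χ ≠ (fun _ => 1) →
          classInner (fun g : ↥(Gm cs h T X) => (Nat.card (MulAction.fixedBy (↥(Gm cs h T X) ⧸
            (Hm cs h T X).subgroupOf (Gm cs h T X)) g) : ℂ)) χ ≠ 0 →
          charDegree χ ∈ charDegrees G ∧ p ∣ charDegree χ ∧ charDegree χ ≠ Q := by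
        intro χ hχ h1 h2
        obtain ⟨d, hd, h3, h4, h6⟩ := key χ hχ h1 h2
        rcases h6 with h6 | ⟨-, h6⟩
        · rw [← h6]
          exact ⟨hd, h3, h4⟩
        · exact absurd h6 (hhalf χ hχ h1 h2 d hd h3 h4)
      obtain ⟨a1, a2, a3⟩ := hone χ hχ h1 h2
      obtain ⟨b1, b2, b3⟩ := hone χ' hχ' h1' h2'
      have h7 := heq a1 b1 a2 b2 a3 b3
      rw [← h7]
      exact ⟨dvd_rfl, by omega⟩
    · push Not at hex
      exact S.false_of_degrees hG hM hidx 1 fun χ' hχ' h1' h2' => absurd (hex χ' hχ' h1') h2'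

end Cfsg.Agent.H845.FD.Main
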