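import Cfsg.Agent.H845.FD.Sit

/-!
# The type preserving subgroup of index at most two (helper845)

`N` normal in the finite group `G` with root group data of rank 2, `K0` : the elements normalising `U` and `P_0`,
`Gm = N K0` has index 1 or 2 (and then `|X_0| = |X_1|`), `Hm = P_0 K0`, and `Sit` holds for `N ≤ Gm`, `Hm`.
-/

set_option autoImplicit false
set_option linter.unusedSectionVars false

namespace Cfsg.Agent.H845.FD.Setup

open CoxeterSystem Cfsg.Agent.ChevalleyStructure.CoxeterGeom Cfsg.Agent.Tits.Roots Cfsg.Agent.Tits.Core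
  Cfsg.Agent.Tits.Exchange Cfsg.Agent.Nodes.Reps Cfsg.Agent.Nodes.BNOf Cfsg.Agent.Nodes.StabComb
  Cfsg.Agent.Nodes.Bruhat Cfsg.Agent.Nodes.OppDec Cfsg.Agent.Nodes.LeviDec Cfsg.Agent.Nodes.NormalForm
  Cfsg.Agent.H845.FD.Cox Cfsg.Agent.H845.FD.Card Cfsg.Agent.H845.FD.SitDef
  Cfsg.Agent.KFacts.RgdAut Cfsg.Agent.KFacts.RgdDiag

variable {G : Type*} [Group G]

/-- the elements normalising the subgroup `S` of `N` -/
def FixG (N : Subgroup G) [N.Normal] (S : Subgroup N) : Subgroup G where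
  carrier := {g | Fix (MulAut.conjNormal g : MulAut N) S}
  one_mem' := by
    intro x
    rw [map_one]
    exact Iff.rfl
  mul_mem' := by
    intro a b ha hb
    change Fix (MulAut.conjNormal (a * b) : MulAut N) S
    rw [map_mul]
    exact Fix.mul ha hb
  inv_mem' := by
    intro a ha
    change Fix (MulAut.conjNormal a⁻¹ : MulAut N) S
    rw [map_inv]
    exact Fix.inv ha

theorem mem_FixG {N : Subgroup G} [N.Normal] {S : Subgroup N} {g : G} :
    g ∈ FixG N S ↔ Fix (MulAut.conjNormal g : MulAut N) S := Iff.rfl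

theorem conjNormal_coe {N : Subgroup G} [N.Normal] (y : N) : (MulAut.conjNormal (y : G) : MulAut N) = MulAut.conj y := by
  ext x
  rfl

theorem coe_mem_FixG {N : Subgroup G} [N.Normal] {S : Subgroup N} {y : N} :
    (y : G) ∈ FixG N S ↔ y ∈ Subgroup.normalizer (S : Set N) := by
  rw [mem_FixG, conjNormal_coe, Subgroup.mem_normalizer_iff]
  constructor
  · intro h x
    exact (h x).symm
  · intro h x
    exact (h x).symm

variable {W : Type*} [Group W] {M : CoxeterMatrix (Fin 2)} {N : Subgroup G} [N.Normal]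
  {cs : CoxeterSystem M W} {A : Fin 2 → Fin 2 → ℤ} {h : IsCartan M A} {p : ℕ} {T : Subgroup N} {n : Fin 2 → N}
  {X : (Fin 2 → ℤ) → Subgroup N}

/-- the elements normalising `U` and `P_0` -/
def K0 (cs : CoxeterSystem M W) (h : IsCartan M A) (T : Subgroup N) (X : (Fin 2 → ℤ) → Subgroup N) : Subgroup G :=
  FixG N (RGD.Sup X (RGD.Pos cs h)) ⊓ FixG N (PJ cs h T X {0})

/-- the subgroup `P_0 K0` -/
def Hm (cs : CoxeterSystem M W) (h : IsCartan M A) (T : Subgroup N) (X : (Fin 2 → ℤ) → Subgroup N) : Subgroup G where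
  carrier := {g | ∃ y ∈ PJ cs h T X {0}, ∃ k ∈ K0 cs h T X, g = (y : G) * k}
  one_mem' := ⟨1, one_mem _, 1, one_mem _, by simp⟩
  mul_mem' := by
    rintro _ _ ⟨y, hy, k, hk, rfl⟩ ⟨y', hy', k', hk', rfl⟩
    refine ⟨y * MulAut.conjNormal k y', mul_mem hy ((hk.2 y').2 hy'), k * k', mul_mem hk hk', ?_⟩
    rw [Subgroup.coe_mul, MulAut.conjNormal_apply]
    group
  inv_mem' := by
    rintro _ ⟨y, hy, k, hk, rfl⟩
    refine ⟨MulAut.conjNormal k⁻¹ y⁻¹, ((inv_mem hk).2 _).2 (inv_mem hy), k⁻¹, inv_mem hk, ?_⟩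
    rw [MulAut.conjNormal_apply, Subgroup.coe_inv]
    group

/-- the type preserving subgroup -/
def Gm (cs : CoxeterSystem M W) (h : IsCartan M A) (T : Subgroup N) (X : (Fin 2 → ℤ) → Subgroup N) : Subgroup G where
  carrier := {g | ∃ y : N, ∃ k ∈ K0 cs h T X, g = (y : G) * k}
  one_mem' := ⟨1, 1, one_mem _, by simp⟩
  mul_mem' := by
    rintro _ _ ⟨y, k, hk, rfl⟩ ⟨y', k', hk', rfl⟩
    refine ⟨y * MulAut.conjNormal k y', k * k', mul_mem hk hk', ?_⟩
    rw [Subgroup.coe_mul, MulAut.conjNormal_apply]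
    group
  inv_mem' := by
    rintro _ ⟨y, k, hk, rfl⟩
    refine ⟨MulAut.conjNormal k⁻¹ y⁻¹, k⁻¹, inv_mem hk, ?_⟩
    rw [MulAut.conjNormal_apply, Subgroup.coe_inv]
    group

/-- `k` acts on the diagram by `σ` -/
def DK (cs : CoxeterSystem M W) (h : IsCartan M A) (T : Subgroup N) (X : (Fin 2 → ℤ) → Subgroup N) (k : G)
    (σ : Equiv.Perm (Fin 2)) : Prop :=
  ∃ u ∈ RGD.Sup X (RGD.Pos cs h), Diag T X (MulAut.conjNormal ((u : G) * k)) σ

theorem DK.mul {k k' : G} {σ σ' : Equiv.Perm (Fin 2)} (hk : k ∈ FixG N (RGD.Sup X (RGD.Pos cs h)))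
    (h1 : DK cs h T X k σ) (h2 : DK cs h T X k' σ') : DK cs h T X (k * k') (σ * σ') := by
  obtain ⟨u, hu, D⟩ := h1
  obtain ⟨u', hu', D'⟩ := h2
  refine ⟨u * MulAut.conjNormal k u', mul_mem hu ((hk u').2 hu'), ?_⟩
  have h3 := D.mul D'
  rw [← map_mul] at h3
  have h4 : ((u : G) * k) * ((u' : G) * k') = ((u * MulAut.conjNormal k u' : N) : G) * (k * k') := by
    rw [Subgroup.coe_mul, MulAut.conjNormal_apply]
    group
  rwa [h4] at h3

theorem perm_cases (σ : Equiv.Perm (Fin 2)) : σ = 1 ∨ σ = Equiv.swap 0 1 := by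
  revert σ
  decide

section

variable (R : RGD cs h p T n X)

include R

theorem exists_DK [Finite W] (hG : GG cs h T X = ⊤) {k : G} (hk : k ∈ FixG N (RGD.Sup X (RGD.Pos cs h))) :
    ∃ σ, DK cs h T X k σ := by
  obtain ⟨u, hu, h1, -, h2, -, -⟩ := exists_frame R hG hk
  obtain ⟨σ, D⟩ := exists_diag R hG h1 h2
  refine ⟨σ, u, hu, ?_⟩
  rwa [← conjNormal_coe, ← map_mul] at D

/-- an element with diagonal action preserves the cells -/
theorem rp_of_DK [Finite W] {k : G} (u : N) (D : Diag T X (MulAut.conjNormal ((u : G) * k)) 1) {w : W} {g : N}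
    (hg : Rp cs R.nsys w g) : Rp cs R.nsys w (MulAut.conjNormal ((u : G) * k) g) := by
  have hσ : ∀ i j, M ((1 : Equiv.Perm (Fin 2)) i) ((1 : Equiv.Perm (Fin 2)) j) = M i j := fun i j => rfl
  have h1 := D.rp' (R := R) hσ hg
  have h2 : hat cs (1 : Equiv.Perm (Fin 2)) hσ = MonoidHom.id W := by
    refine cs.ext_simple fun i => ?_
    exact (hat_simple (1 : Equiv.Perm (Fin 2)) hσ i)
  rw [h2] at h1
  exact h1

theorem mem_K0_iff [Finite W] (hG : GG cs h T X = ⊤) {k : G} (hk : k ∈ FixG N (RGD.Sup X (RGD.Pos cs h))) :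
    k ∈ K0 cs h T X ↔ DK cs h T X k 1 := by
  have hUP : RGD.Sup X (RGD.Pos cs h) ≤ PJ cs h T X {0} := RGD.U_le_B.trans B_le_PJ
  have hfix : ∀ u ∈ RGD.Sup X (RGD.Pos cs h), (Fix (MulAut.conjNormal k : MulAut N) (PJ cs h T X {0}) ↔
      Fix (MulAut.conjNormal ((u : G) * k) : MulAut N) (PJ cs h T X {0})) := by
    intro u hu
    have h1 : ∀ x : N, (MulAut.conjNormal ((u : G) * k) x) ∈ PJ cs h T X {0} ↔ MulAut.conjNormal k x ∈ PJ cs h T X {0} := by
      intro x
      rw [map_mul, conjNormal_coe, MulAut.mul_apply, MulAut.conj_apply]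
      constructor
      · intro h2
        have h3 := mul_mem (mul_mem (inv_mem (hUP hu)) h2) (hUP hu)
        have h4 : u⁻¹ * (u * MulAut.conjNormal k x * u⁻¹) * u = MulAut.conjNormal k x := by group
        rwa [h4] at h3
      · intro h2
        exact mul_mem (mul_mem (hUP hu) h2) (inv_mem (hUP hu))
    constructor
    · intro h2 x
      rw [h1, h2]
    · intro h2 x
      rw [← h1, h2]
  constructor
  · intro h1
    obtain ⟨σ, u, hu, D⟩ := exists_DK R hG hk
    have h2 := (hfix u hu).1 h1.2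
    have h3 : n 0 ∈ PJ cs h T X {0} := LJ_le_PJ (n_mem_LJ R rfl)
    have h4 := (h2 (n 0)).2 h3
    have h5 := (cell_mem_PJ_iff R (cell_of_rp (D.rp (R := R) 0))).1 h4
    have h6 := eq_of_simple_mem h h5
    rcases perm_cases σ with rfl | rfl
    · exact ⟨u, hu, D⟩
    · exact absurd h6 (by decide)
  · rintro ⟨u, hu, D⟩
    refine ⟨hk, (hfix u hu).2 ?_⟩
    have h1 : Fix (MulAut.conjNormal ((u : G) * k) : MulAut N) (RGD.B cs h T X) := by
      refine fix_B R hG ?_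
      have huF : (u : G) ∈ FixG N (RGD.Sup X (RGD.Pos cs h)) := coe_mem_FixG.2 (Subgroup.le_normalizer hu)
      exact mul_mem huF hk
    have key : ∀ x : N, (∃ w ∈ WJ cs {0}, Cell R.nsys cs h X w x) →
        ∃ w ∈ WJ cs {0}, Cell R.nsys cs h X w (MulAut.conjNormal ((u : G) * k) x) := by
      rintro x ⟨w, hw, b₁, hb₁, g, hg, b₂, hb₂, rfl⟩
      refine ⟨w, hw, _, (h1 b₁).2 hb₁, _, rp_of_DK R u D hg, _, (h1 b₂).2 hb₂, ?_⟩
      rw [map_mul, map_mul]
    intro x
    rw [mem_PJ_iff_cell R, mem_PJ_iff_cell R]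
    refine ⟨fun h2 => ?_, key x⟩
    obtain ⟨w, hw⟩ := (mem_GG R).1 (hG ▸ Subgroup.mem_top x)
    refine ⟨w, ?_, hw⟩
    obtain ⟨b₁, hb₁, g, hg, b₂, hb₂, rfl⟩ := hw
    obtain ⟨w', hw', hc⟩ := h2
    have h3 : Cell R.nsys cs h X w (MulAut.conjNormal ((u : G) * k) (b₁ * g * b₂)) :=
      ⟨_, (h1 b₁).2 hb₁, _, rp_of_DK R u D hg, _, (h1 b₂).2 hb₂, by rw [map_mul, map_mul]⟩
    rwa [Cell.unique R h3 hc]

end

end Cfsg.Agent.H845.FD.Setup
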