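import Cfsg.Agent.H845.FD.Setup

/-!
# The type preserving subgroup of index at most two: the situation `Sit` (helper845)
-/

set_option autoImplicit false
set_option linter.unusedSectionVars false

namespace Cfsg.Agent.H845.FD.Setup

open CoxeterSystem Cfsg.Agent.ChevalleyStructure.CoxeterGeom Cfsg.Agent.Tits.Roots Cfsg.Agent.Tits.Core
  Cfsg.Agent.Tits.Exchange Cfsg.Agent.Nodes.Reps Cfsg.Agent.Nodes.BNOf Cfsg.Agent.Nodes.StabComb
  Cfsg.Agent.Nodes.Bruhat Cfsg.Agent.Nodes.OppDec Cfsg.Agent.Nodes.LeviDec Cfsg.Agent.Nodes.NormalForm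
  Cfsg.Agent.H845.FD.Cox Cfsg.Agent.H845.FD.Card Cfsg.Agent.H845.FD.SitDef
  Cfsg.Agent.KFacts.RgdAut Cfsg.Agent.KFacts.RgdDiag

variable {G : Type*} [Group G] {W : Type*} [Group W] {M : CoxeterMatrix (Fin 2)} {N : Subgroup G} [N.Normal]
  {cs : CoxeterSystem M W} {A : Fin 2 → Fin 2 → ℤ} {h : IsCartan M A} {p : ℕ} {T : Subgroup N} {n : Fin 2 → N}
  {X : (Fin 2 → ℤ) → Subgroup N}

theorem le_Gm : N ≤ Gm cs h T X := fun y hy => ⟨⟨y, hy⟩, 1, one_mem _, by simp⟩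

variable (R : RGD cs h p T n X)

include R

theorem coe_mem_K0 {b : N} (hb : b ∈ RGD.B cs h T X) : (b : G) ∈ K0 cs h T X :=
  ⟨coe_mem_FixG.2 (R.B_le_normalizer_U hb), coe_mem_FixG.2 (Subgroup.le_normalizer (B_le_PJ hb))⟩

theorem mem_B_of_coe [Finite W] (hG : GG cs h T X = ⊤) {b : N} (hb : (b : G) ∈ FixG N (RGD.Sup X (RGD.Pos cs h))) :
    b ∈ RGD.B cs h T X := by
  rw [coe_mem_FixG, normalizer_U' R hG] at hb
  exact hb

/-- the Frattini argument -/
theorem frattini [Finite W] [Finite G] [hp : Fact p.Prime] (hG : GG cs h T X = ⊤) (g : G) :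
    ∃ y : N, ∃ k ∈ FixG N (RGD.Sup X (RGD.Pos cs h)), g = (y : G) * k := by
  obtain ⟨S, hS⟩ := R.isPGroup_Upos.exists_le_sylow
  have h1 := eq_U_of_isPGroup R S.isPGroup' hS (by rw [hG]; exact le_top)
  have h2 := Sylow.normalizer_sup_eq_top (N := N) S
  have h3 : g⁻¹ ∈ Subgroup.normalizer (((S : Subgroup N).map N.subtype : Subgroup G) : Set G) ⊔ N := by
    have h4 : g⁻¹ ∈ (⊤ : Subgroup G) := Subgroup.mem_top _
    rwa [← h2] at h4
  rw [Subgroup.mem_sup_of_normal_right] at h3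
  obtain ⟨k, hk, y, hy, e⟩ := h3
  refine ⟨⟨y⁻¹, inv_mem hy⟩, k⁻¹, ?_, ?_⟩
  · refine inv_mem ?_
    intro x
    rw [← h1]
    have h5 := Subgroup.mem_normalizer_iff.1 hk (x : G)
    have h6 : ∀ z : N, (z : G) ∈ (S : Subgroup N).map N.subtype ↔ z ∈ (S : Subgroup N) := by
      intro z
      constructor
      · rintro ⟨z', hz', e'⟩
        have h7 : z' = z := Subtype.ext e'
        rwa [← h7]
      · intro hz
        exact ⟨z, hz, rfl⟩
    change MulAut.conjNormal k x ∈ (S : Subgroup N) ↔ x ∈ (S : Subgroup N)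
    rw [← h6, ← h6 x, MulAut.conjNormal_apply]
    exact h5.symm
  · rw [← inv_inj, ← e]
    simp

theorem mul_mem_Gm_iff [Finite W] (hG : GG cs h T X = ⊤) {y : N} {k : G} (hk : k ∈ FixG N (RGD.Sup X (RGD.Pos cs h))) :
    (y : G) * k ∈ Gm cs h T X ↔ k ∈ K0 cs h T X := by
  constructor
  · rintro ⟨y', k', hk', e⟩
    have h1 : ((y⁻¹ * y' : N) : G) = k * k'⁻¹ := by
      rw [Subgroup.coe_mul, Subgroup.coe_inv, eq_mul_inv_iff_mul_eq, mul_assoc, ← e, inv_mul_cancel_left]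
    have h2 : ((y⁻¹ * y' : N) : G) ∈ FixG N (RGD.Sup X (RGD.Pos cs h)) := by
      rw [h1]; exact mul_mem hk (inv_mem hk'.1)
    have h3 := coe_mem_K0 R (mem_B_of_coe R hG h2)
    rw [h1] at h3
    have h4 := mul_mem h3 hk'
    rwa [inv_mul_cancel_right] at h4
  · intro hk'
    exact ⟨y, k, hk', rfl⟩

/-- The type preserving subgroup has index 1 or 2. -/
theorem Gm_cases [Finite W] [Finite G] [hp : Fact p.Prime] (hG : GG cs h T X = ⊤) :
    Gm cs h T X = ⊤ ∨ ((Gm cs h T X).index = 2 ∧ Nat.card ↥(X (sr 0)) = Nat.card ↥(X (sr 1))) := by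
  by_cases hK : ∀ k ∈ FixG N (RGD.Sup X (RGD.Pos cs h)), k ∈ K0 cs h T X
  · left
    rw [eq_top_iff]
    intro g _
    obtain ⟨y, k, hk, rfl⟩ := frattini R hG g
    exact (mul_mem_Gm_iff R hG hk).2 (hK k hk)
  · right
    push Not at hK
    obtain ⟨k₁, hk₁, hk₁'⟩ := hK
    obtain ⟨σ, hσ⟩ := exists_DK R hG hk₁
    have hσ1 : σ ≠ 1 := fun h1 => hk₁' ((mem_K0_iff R hG hk₁).2 (h1 ▸ hσ))
    have hσ2 : σ = Equiv.swap 0 1 := (perm_cases σ).resolve_left hσ1
    subst hσ2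
    constructor
    · rw [Subgroup.index_eq_two_iff]
      refine ⟨k₁, fun g => ?_⟩
      obtain ⟨y, k, hk, rfl⟩ := frattini R hG g
      rw [mul_assoc, mul_mem_Gm_iff R hG hk, mul_mem_Gm_iff R hG (mul_mem hk hk₁), mem_K0_iff R hG hk,
        mem_K0_iff R hG (mul_mem hk hk₁)]
      obtain ⟨τ, hτ⟩ := exists_DK R hG hk
      have h1 := DK.mul hk hτ hσ
      -- uniqueness of the permutation
      have huniq : ∀ {g : G} {σ₁ : Equiv.Perm (Fin 2)}, g ∈ FixG N (RGD.Sup X (RGD.Pos cs h)) → DK cs h T X g σ₁ →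
          DK cs h T X g 1 → σ₁ = 1 := by
        intro g σ₁ hg h2 h3
        rcases perm_cases σ₁ with h4 | h4
        · exact h4
        · exfalso
          subst h4
          have h5 := (mem_K0_iff R hG hg).2 h3
          obtain ⟨u, hu, D⟩ := h2
          have h6 : (u : G) * g ∈ K0 cs h T X := mul_mem (coe_mem_K0 R (RGD.U_le_B hu)) h5
          have h7 := (h6.2 (n 0)).2 (LJ_le_PJ (n_mem_LJ R rfl))
          have h8 := (cell_mem_PJ_iff R (cell_of_rp (D.rp (R := R) 0))).1 h7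
          exact absurd (eq_of_simple_mem h h8) (by decide)
      rcases perm_cases τ with rfl | rfl
      · refine Or.inr ⟨hτ, fun h2 => ?_⟩
        exact absurd (huniq (mul_mem hk hk₁) h1 h2) (by decide)
      · refine Or.inl ⟨?_, fun h2 => ?_⟩
        · have h3 : Equiv.swap (0 : Fin 2) 1 * Equiv.swap 0 1 = 1 := by decide
          rwa [h3] at h1
        · exact absurd (huniq hk hτ h2) (by decide)
    · obtain ⟨u, hu, D⟩ := hσ
      refine Nat.card_congr (Equiv.ofBijective (fun x : ↥(X (sr 0)) =>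
        (⟨MulAut.conjNormal ((u : G) * k₁) x, (D.pos 0 x).2 x.2⟩ : ↥(X (sr 1)))) ⟨?_, ?_⟩)
      · intro a b hab
        have h1 := congrArg Subtype.val hab
        exact Subtype.ext ((MulAut.conjNormal ((u : G) * k₁) : MulAut N).injective h1)
      · rintro ⟨b, hb⟩
        obtain ⟨a, rfl⟩ := (MulAut.conjNormal ((u : G) * k₁) : MulAut N).surjective b
        exact ⟨⟨a, (D.pos 0 a).1 hb⟩, rfl⟩

/-- **The situation.** -/
theorem sit [Finite W] [Finite G] (hG : GG cs h T X = ⊤) :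
    Sit R (Subgroup.inclusion (le_Gm : N ≤ Gm cs h T X)) ((Hm cs h T X).subgroupOf (Gm cs h T X)) where
  inj := Subgroup.inclusion_injective _
  conj := by
    rintro ⟨g, hg⟩ y
    exact ⟨MulAut.conjNormal g⁻¹ y, Subtype.ext (by
      change ((MulAut.conjNormal g⁻¹ y : N) : G) = g⁻¹ * y * g
      rw [MulAut.conjNormal_apply, inv_inv])⟩
  mem := by
    intro y
    rw [Subgroup.mem_subgroupOf]
    change (y : G) ∈ Hm cs h T X ↔ _
    constructor
    · rintro ⟨y', hy', k, hk, e⟩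
      have h1 : ((y'⁻¹ * y : N) : G) = k := by
        rw [Subgroup.coe_mul, Subgroup.coe_inv, e, inv_mul_cancel_left]
      have h2 : ((y'⁻¹ * y : N) : G) ∈ FixG N (RGD.Sup X (RGD.Pos cs h)) := by rw [h1]; exact hk.1
      have h3 := mul_mem hy' (B_le_PJ (J := {0}) (mem_B_of_coe R hG h2))
      rwa [mul_inv_cancel_left] at h3
    · intro hy
      exact ⟨y, hy, 1, one_mem _, by simp⟩
  dec := by
    rintro ⟨g, y, k, hk, rfl⟩
    refine ⟨y, ⟨k, ⟨1, k, hk, by simp⟩⟩, ?_, rfl⟩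
    rw [Subgroup.mem_subgroupOf]
    exact ⟨1, one_mem _, k, hk, by simp⟩
  diag := by
    rintro ⟨x, hxG⟩ hx
    rw [Subgroup.mem_subgroupOf] at hx
    obtain ⟨y, hy, k, hk, e⟩ := hx
    obtain ⟨u, hu, D⟩ := (mem_K0_iff R hG hk.1).1 hk
    refine ⟨u * y⁻¹, mul_mem (B_le_PJ (RGD.U_le_B hu)) (inv_mem hy), fun w g hg => ?_⟩
    refine ⟨MulAut.conjNormal ((u : G) * k) g, rp_of_DK R u D hg, Subtype.ext ?_⟩
    have e' : x = (y : G) * k := e
    change ((u * y⁻¹ : N) : G) * x * g = ((MulAut.conjNormal ((u : G) * k) g : N) : G) * (((u * y⁻¹ : N) : G) * x)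
    rw [MulAut.conjNormal_apply, e', Subgroup.coe_mul, Subgroup.coe_inv]
    group

end Cfsg.Agent.H845.FD.Setup
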