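import Cfsg.Agent.H845.FD.Card

/-!
# A group acting on the cosets of a maximal parabolic subgroup of type `B₂`, `G₂` (helper845)

`Sit R φ H` : `φ : Y → Γ` injective with normal range, `H ∩ Y = P_0`, `Γ = Y H`, the elements of `H` act on the Bruhat
cells of `Y` as type preserving automorphisms.
-/

set_option autoImplicit false
set_option linter.unusedSectionVars false

namespace Cfsg.Agent.H845.FD.SitDef

open CoxeterSystem Cfsg.Agent.ChevalleyStructure.CoxeterGeom Cfsg.Agent.Tits.Roots Cfsg.Agent.Tits.Core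
  Cfsg.Agent.Tits.Exchange Cfsg.Agent.Nodes.Reps Cfsg.Agent.Nodes.BNOf Cfsg.Agent.Nodes.StabComb
  Cfsg.Agent.Nodes.Bruhat Cfsg.Agent.Nodes.OppDec Cfsg.Agent.Nodes.LeviDec Cfsg.Agent.Nodes.NormalForm
  Cfsg.Agent.H845.FD.Cox Cfsg.Agent.H845.FD.Card

variable {W Y Γ : Type*} [Group W] [Group Y] [Group Γ] {M : CoxeterMatrix (Fin 2)}
  {cs : CoxeterSystem M W} {A : Fin 2 → Fin 2 → ℤ} {h : IsCartan M A} {p : ℕ} {T : Subgroup Y} {n : Fin 2 → Y}
  {X : (Fin 2 → ℤ) → Subgroup Y}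

/-- the situation -/
structure Sit (R : RGD cs h p T n X) (φ : Y →* Γ) (H : Subgroup Γ) : Prop where
  inj : Function.Injective φ
  conj : ∀ (g : Γ) (y : Y), ∃ y', φ y' = g⁻¹ * φ y * g
  mem : ∀ y, φ y ∈ H ↔ y ∈ PJ cs h T X {0}
  dec : ∀ g : Γ, ∃ y : Y, ∃ x ∈ H, g = φ y * x
  diag : ∀ x ∈ H, ∃ y ∈ PJ cs h T X {0}, ∀ w k, Rp cs R.nsys w k →
    ∃ k', Rp cs R.nsys w k' ∧ φ y * x * φ k = φ k' * (φ y * x)

/-- the base point -/
abbrev pt (H : Subgroup Γ) : Γ ⧸ H := ((1 : Γ) : Γ ⧸ H)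

theorem smul_pt_eq_iff {H : Subgroup Γ} {g g' : Γ} : g • pt H = g' • pt H ↔ g⁻¹ * g' ∈ H := by
  rw [show g • pt H = ((g : Γ) : Γ ⧸ H) by rw [MulAction.Quotient.smul_mk, smul_eq_mul, mul_one],
    show g' • pt H = ((g' : Γ) : Γ ⧸ H) by rw [MulAction.Quotient.smul_mk, smul_eq_mul, mul_one], QuotientGroup.eq]

variable {R : RGD cs h p T n X} {φ : Y →* Γ} {H : Subgroup Γ} (S : Sit R φ H)

include S

theorem Sit.smul_pt {y : Y} (hy : y ∈ PJ cs h T X {0}) : φ y • pt H = pt H := by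
  have h1 := smul_pt_eq_iff (H := H) (g := φ y) (g' := 1)
  rw [one_smul] at h1
  rw [h1, mul_one]
  exact inv_mem ((S.mem y).2 hy)

/-- the orbits of `H` through points `φ k • pt` are orbits of `P_0` -/
theorem Sit.orbit_eq {w : W} {k : Y} (hk : Rp cs R.nsys w k) :
    MulAction.orbit (MulAction.stabilizer Γ (pt H)) (φ k • pt H) =
      {b | ∃ y ∈ PJ cs h T X {0}, b = φ y • φ k • pt H} := by
  ext b
  constructor
  · rintro ⟨⟨x, hx⟩, rfl⟩
    have hxH : x ∈ H := by rwa [MulAction.stabilizer_quotient] at hx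
    obtain ⟨y, hy, hyd⟩ := S.diag x hxH
    obtain ⟨k', hk', e⟩ := hyd w k hk
    refine ⟨y⁻¹, inv_mem hy, ?_⟩
    change x • φ k • pt H = _
    have h1 : x * φ k = φ y⁻¹ * φ k' * (φ y * x) := by
      rw [mul_assoc, ← e, map_inv]
      group
    have h2 : (φ y * x) • pt H = pt H := by
      rw [mul_smul]
      have h3 : x • pt H = pt H := hx
      rw [h3, S.smul_pt hy]
    have h4 : φ k' • pt H = φ k • pt H := by
      have h5 : k' = k * (k⁻¹ * k') := by group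
      rw [h5, map_mul, mul_smul, S.smul_pt (B_le_PJ (RGD.T_le_B (hk.unique hk')))]
    rw [← mul_smul, h1, mul_smul, h2, mul_smul, h4]
  · rintro ⟨y, hy, rfl⟩
    exact ⟨⟨φ y, by rw [MulAction.stabilizer_quotient]; exact (S.mem y).2 hy⟩, rfl⟩

theorem Sit.exists_rep (b : Γ ⧸ H) : ∃ y : Y, b = φ y • pt H := by
  obtain ⟨g, rfl⟩ := QuotientGroup.mk_surjective b
  obtain ⟨y, x, hx, rfl⟩ := S.dec g
  refine ⟨y, ?_⟩
  have h1 : ((φ y * x : Γ) : Γ ⧸ H) = (φ y * x) • pt H := by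
    rw [MulAction.Quotient.smul_mk, smul_eq_mul, mul_one]
  rw [h1, smul_pt_eq_iff]
  have h2 : (φ y * x)⁻¹ * φ y = x⁻¹ := by group
  rw [h2]
  exact inv_mem hx

/-- `|Ω| = |Y : P_0|` -/
theorem Sit.card_eq : Nat.card (Γ ⧸ H) = (PJ cs h T X {0}).index := by
  unfold Subgroup.index
  symm
  refine Nat.card_congr (Equiv.ofBijective
    (Quotient.lift (fun y : Y => φ y • pt H) fun a b hab => ?_) ⟨?_, ?_⟩)
  · rw [smul_pt_eq_iff, ← map_inv, ← map_mul, S.mem]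
    exact QuotientGroup.leftRel_apply.1 hab
  · intro a b
    induction a using QuotientGroup.induction_on with
    | H a =>
      induction b using QuotientGroup.induction_on with
      | H b =>
        intro hab
        rw [QuotientGroup.eq]
        have h1 : φ a • pt H = φ b • pt H := hab
        rwa [smul_pt_eq_iff, ← map_inv, ← map_mul, S.mem] at h1
  · intro b
    obtain ⟨y, hy⟩ := S.exists_rep b
    exact ⟨(y : Y ⧸ PJ cs h T X {0}), hy.symm⟩

/-! ### The suborbit of `n_1` -/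

omit S in
theorem conj_VJ_one [Finite W] (R : RGD cs h p T n X) {v : Y} (hv : v ∈ VJ cs h X {1}) :
    (n 1)⁻¹ * v * n 1 ∈ VJ cs h X {1} := by
  refine conj_mem_Sup' R (rp_simple cs R.nsys 1) (fun x hx => hx.1) (fun x hx => ?_) hv
  refine NotJ.act ?_ hx
  rw [cs.inv_simple]
  exact simple_mem_WJ cs (Set.mem_singleton 1)

theorem Sit.card_orbit_one [Finite W] [Finite Y] [Finite Γ] :
    Nat.card (MulAction.orbit (MulAction.stabilizer Γ (pt H)) (φ (n 1) • pt H)) ∣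
      (RGD.Sup X (RGD.Pos cs h)).relIndex (PJ cs h T X {0}) * Nat.card ↥(X (sr 1)) := by
  rw [S.orbit_eq (rp_simple cs R.nsys 1)]
  let _ : MulAction ↥(PJ cs h T X {0}) (Γ ⧸ H) := MulAction.compHom _ (φ.comp (PJ cs h T X {0}).subtype)
  have h1 : {b | ∃ y ∈ PJ cs h T X {0}, b = φ y • φ (n 1) • pt H} =
      MulAction.orbit ↥(PJ cs h T X {0}) (φ (n 1) • pt H) := by
    ext b
    constructor
    · rintro ⟨y, hy, rfl⟩
      exact ⟨⟨y, hy⟩, rfl⟩
    · rintro ⟨⟨y, hy⟩, rfl⟩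
      exact ⟨y, hy, rfl⟩
  rw [h1, Nat.card_coe_set_eq, ← MulAction.index_stabilizer]
  have hU : RGD.Sup X (RGD.Pos cs h) ≤ PJ cs h T X {0} := RGD.U_le_B.trans B_le_PJ
  have hle : (VJ cs h X {1}).subgroupOf (PJ cs h T X {0}) ≤
      MulAction.stabilizer ↥(PJ cs h T X {0}) (φ (n 1) • pt H) := by
    rintro ⟨v, hvP⟩ hv
    have hv' : v ∈ VJ cs h X {1} := hv
    change φ v • φ (n 1) • pt H = φ (n 1) • pt H
    have h2 := conj_VJ_one R hv'
    have h3 : φ v * φ (n 1) = φ (n 1) * φ ((n 1)⁻¹ * v * n 1) := by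
      rw [← map_mul, ← map_mul]
      congr 1
      group
    rw [← mul_smul, h3, mul_smul, S.smul_pt (hU (VJ_le_U _ h2))]
  have h2 := Subgroup.index_dvd_of_le hle
  refine h2.trans (dvd_of_eq ?_)
  change (VJ cs h X {1}).relIndex (PJ cs h T X {0}) = _
  rw [← Subgroup.relIndex_mul_relIndex _ _ _ (VJ_le_U (cs := cs) (h := h) (X := X) {1}) hU, mul_comm]
  congr 1
  have h3 := Subgroup.card_mul_index ((VJ cs h X {1}).subgroupOf (RGD.Sup X (RGD.Pos cs h)))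
  have h4 : Nat.card ↥((VJ cs h X {1}).subgroupOf (RGD.Sup X (RGD.Pos cs h))) = Nat.card ↥(VJ cs h X {1}) :=
    Nat.card_congr (Subgroup.subgroupOfEquivOfLe (VJ_le_U _)).toEquiv
  rw [h4, card_U_eq R 1, mul_comm] at h3
  exact Nat.eq_of_mul_eq_mul_right Nat.card_pos h3

/-! ### The opposite suborbit -/

theorem Sit.card_orbit_opp [Finite W] [Finite Y] [Finite Γ] {w : W} (hw : ∀ x, rep cs h w x = -x) {k : Y}
    (hk : Rp cs R.nsys w k) :
    Nat.card (MulAction.orbit (MulAction.stabilizer Γ (pt H)) (φ k • pt H)) = Nat.card ↥(VJ cs h X {0}) := by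
  have hw' : ∀ x, rep cs h w⁻¹ x = -x := by
    intro x
    have h1 := rep_inv_apply cs h w (-x)
    rw [hw, neg_neg] at h1
    exact h1
  rw [S.orbit_eq hk]
  have hU : RGD.Sup X (RGD.Pos cs h) ≤ PJ cs h T X {0} := RGD.U_le_B.trans B_le_PJ
  have hL : ∀ l ∈ LJ cs h T X {0}, k⁻¹ * l * k ∈ LJ cs h T X {0} := by
    intro l hl
    have h1 : cj k⁻¹ (LJ cs h T X {0}) ≤ LJ cs h T X {0} := by
      unfold LJ
      rw [cj_sup, cj_T R hk.inv]
      refine sup_le_sup_left (cj_Sup_le R hk.inv (fun x hx => hx.1) fun x hx => ?_) _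
      rw [hw']
      exact RootsJ.neg hx
    have h2 : k⁻¹ * l * k⁻¹⁻¹ ∈ cj k⁻¹ (LJ cs h T X {0}) := conj_mem_cj.2 hl
    rw [inv_inv] at h2
    exact h1 h2
  let f : ↥(VJ cs h X {0}) → {b | ∃ y ∈ PJ cs h T X {0}, b = φ y • φ k • pt H} := fun v =>
    ⟨φ v • φ k • pt H, v, hU (VJ_le_U _ v.2), rfl⟩
  symm
  refine Nat.card_congr (Equiv.ofBijective f ⟨?_, ?_⟩)
  · intro a b hab
    have h1 : φ a • φ k • pt H = φ b • φ k • pt H := congrArg Subtype.val hab
    rw [← mul_smul, ← mul_smul, smul_pt_eq_iff, ← map_mul, ← map_mul, ← map_inv, ← map_mul, S.mem] at h1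
    have h2 : ((a : Y) * k)⁻¹ * ((b : Y) * k) = k⁻¹ * ((a : Y)⁻¹ * b) * k := by group
    rw [h2] at h1
    have h3 : k⁻¹ * ((a : Y)⁻¹ * b) * k ∈ VNJ cs h X {0} := by
      refine conj_mem_Sup' R hk (fun x hx => hx.1) (fun x hx => ?_) (mul_mem (inv_mem a.2) b.2)
      rw [hw']
      change - -x ∈ NotJ cs h {0}
      rw [neg_neg]
      exact hx
    have h4 := eq_one_of_mem_VNJ_of_mem_PJ R h3 h1
    have h5 : (a : Y)⁻¹ * b = 1 := by
      have e : (a : Y)⁻¹ * b = k * (k⁻¹ * ((a : Y)⁻¹ * b) * k) * k⁻¹ := by group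
      rw [e, h4]; group
    exact Subtype.ext (inv_mul_eq_one.1 h5)
  · rintro ⟨b, y, hy, rfl⟩
    obtain ⟨l, hl, v, hv, rfl⟩ := (mem_PJ R).1 hy
    have h1 := mem_normalizer_iff_cj.1 (LJ_le_normalizer_VJ R {0} hl)
    have h2 : l * v * l⁻¹ ∈ VJ cs h X {0} := by
      have : l * v * l⁻¹ ∈ cj l (VJ cs h X {0}) := conj_mem_cj.2 hv
      rwa [h1] at this
    refine ⟨⟨l * v * l⁻¹, h2⟩, Subtype.ext ?_⟩
    change φ (l * v * l⁻¹) • φ k • pt H = φ (l * v) • φ k • pt H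
    have h3 : l * v = (l * v * l⁻¹) * l := by group
    have h4 : l * k = k * (k⁻¹ * l * k) := by group
    have h5 : φ l • φ k • pt H = φ k • pt H := by
      rw [← mul_smul, ← map_mul, h4, map_mul, mul_smul, S.smul_pt (LJ_le_PJ (hL l hl))]
    have h6 : φ (l * v) = φ (l * v * l⁻¹) * φ l := by rw [← map_mul, inv_mul_cancel_right]
    rw [h6, mul_smul, h5]

/-! ### The rank -/

theorem Sit.rank_le [Finite W] [Finite Γ] (hG : GG cs h T X = ⊤) {k : ℕ} (hk : M 0 1 = 2 * k) (hk0 : 0 < k) :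
    Nat.card (MulAction.orbitRel.Quotient (MulAction.stabilizer Γ (pt H)) (Γ ⧸ H)) ≤ k + 1 := by
  have hex : ∀ w : W, ∃ g, Rp cs R.nsys w g := fun w => exists_rp cs R.nsys w
  choose κ hκ using hex
  let f : Fin (k + 1) → MulAction.orbitRel.Quotient (MulAction.stabilizer Γ (pt H)) (Γ ⧸ H) := fun j =>
    Quotient.mk'' (φ (κ (rot cs ^ (j : ℕ))) • pt H)
  have hf : Function.Surjective f := by
    intro q
    induction q using Quotient.inductionOn' with
    | h b =>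
      obtain ⟨y, rfl⟩ := S.exists_rep b
      obtain ⟨w, b₁, hb₁, g, hg, b₂, hb₂, rfl⟩ := (mem_GG R).1 (hG ▸ Subgroup.mem_top y)
      obtain ⟨j, hj, a, ha, b, hb, hw⟩ := exists_double cs hk hk0 w
      refine ⟨⟨j, by omega⟩, ?_⟩
      obtain ⟨α, hα⟩ := exists_rp cs R.nsys a
      obtain ⟨β, hβ⟩ := exists_rp cs R.nsys b
      have h1 := (hα.mul (hκ (rot cs ^ j))).mul hβ
      rw [← hw] at h1
      have h2 := h1.unique hg
      have hαP : α ∈ PJ cs h T X {0} := LJ_le_PJ (rp_mem_LJ R ha hα)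
      have hβP : β ∈ PJ cs h T X {0} := LJ_le_PJ (rp_mem_LJ R hb hβ)
      have hgg : b₁ * g * b₂ = (b₁ * α) * κ (rot cs ^ j) * (β * ((α * κ (rot cs ^ j) * β)⁻¹ * g) * b₂) := by group
      have h3 : β * ((α * κ (rot cs ^ j) * β)⁻¹ * g) * b₂ ∈ PJ cs h T X {0} :=
        mul_mem (mul_mem hβP (B_le_PJ (RGD.T_le_B h2))) (B_le_PJ hb₂)
      have h4 : φ (b₁ * g * b₂) • pt H = φ (b₁ * α) • φ (κ (rot cs ^ j)) • pt H := by
        rw [hgg, map_mul, mul_smul, S.smul_pt h3, map_mul, mul_smul]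
      rw [h4]
      apply Quotient.sound'
      rw [MulAction.orbitRel_apply]
      refine ⟨⟨φ (b₁ * α)⁻¹, ?_⟩, ?_⟩
      · rw [MulAction.stabilizer_quotient]
        exact (S.mem _).2 (inv_mem (mul_mem (B_le_PJ hb₁) hαP))
      · change φ (b₁ * α)⁻¹ • φ (b₁ * α) • φ (κ (rot cs ^ j)) • pt H = _
        rw [← mul_smul, ← map_mul, inv_mul_cancel, map_one, one_smul]
  have h1 := Nat.card_le_card_of_surjective f hf
  rwa [Nat.card_fin] at h1

end Cfsg.Agent.H845.FD.SitDef
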